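import Groth.Agent.S4654
import Groth.Agent.NumTriv.FlatFibre
import Groth.Agent.KFlat.LocalD
import Groth.Agent.KFlat.RpushTensor
import Mathlib.RingTheory.Flat.Stability

/-!
# Base change of complexes of modules flat over the base
-/

set_option autoImplicit false
set_option linter.style.haveILetI false

universe u

open CategoryTheory CategoryTheory.Limits AlgebraicGeometry
open Groth.Agent.KFlat Groth.Agent.KFlat.Pull

noncomputable section

attribute [local instance] HasDerivedCategory.standard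

namespace Groth.Agent.FlatBC

variable {X Y : Scheme.{u}} (f : X ⟶ Y)

theorem flatOver_ses {S : ShortComplex X.Modules} (hS : S.ShortExact)
    (h₃ : FlatMod.IsFlatOver f S.X₃) :
    FlatMod.IsFlatOver f S.X₂ ↔ FlatMod.IsFlatOver f S.X₁ := by
  refine forall_congr' fun x => ?_
  obtain ⟨hi, he, hs⟩ := Groth.Agent.PullStalk.Exact.stalk_exact hS x
  let := FlatMod.moduleStalkOver f S.X₁ x
  let := FlatMod.moduleStalkOver f S.X₂ x
  let := FlatMod.moduleStalkOver f S.X₃ x
  let F : S.X₁.presheaf.stalk x →ₗ[Y.presheaf.stalk (f x)] S.X₂.presheaf.stalk x :=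
    { toFun := Groth.Agent.PullStalk.Exact.stalkLin S.f x
      map_add' := map_add _
      map_smul' := fun r t => map_smul (Groth.Agent.PullStalk.Exact.stalkLin S.f x) (f.stalkMap x r) t }
  let G : S.X₂.presheaf.stalk x →ₗ[Y.presheaf.stalk (f x)] S.X₃.presheaf.stalk x :=
    { toFun := Groth.Agent.PullStalk.Exact.stalkLin S.g x
      map_add' := map_add _
      map_smul' := fun r t => map_smul (Groth.Agent.PullStalk.Exact.stalkLin S.g x) (f.stalkMap x r) t }
  have h3 : Module.Flat (Y.presheaf.stalk (f x)) (S.X₃.presheaf.stalk x) := h₃ x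
  constructor
  · intro (h2 : Module.Flat (Y.presheaf.stalk (f x)) (S.X₂.presheaf.stalk x))
    have := Groth.Agent.FlatMor.FlatLemmas.flat_ker G hs
    exact Module.Flat.of_linearEquiv ((LinearEquiv.ofInjective F hi).trans
      (LinearEquiv.ofEq _ _ (LinearMap.exact_iff.mp (show Function.Exact F G from he)).symm))
  · intro (h1 : Module.Flat (Y.presheaf.stalk (f x)) (S.X₁.presheaf.stalk x))
    exact Groth.Agent.S4654.flat_middle F G hi hs he

theorem flatOver_of_iso {M N : X.Modules} (e : M ≅ N) (h : FlatMod.IsFlatOver f M) :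
    FlatMod.IsFlatOver f N := fun x => (CBC.isFlatOverAt_congr_iso f e x).1 (h x)

theorem flatOver_isZero {M : X.Modules} (h : IsZero M) : FlatMod.IsFlatOver f M := fun x => by
  letI := FlatMod.moduleStalkOver f M x
  have : Subsingleton (M.presheaf.stalk x) :=
    ModuleCat.subsingleton_of_isZero ((DerSch.stalkFunctor X x).map_isZero h)
  exact (inferInstance : Module.Flat (Y.presheaf.stalk (f.base x)) (M.presheaf.stalk x))

theorem flatOver_biprod {A B : X.Modules} (hA : FlatMod.IsFlatOver f A)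
    (hB : FlatMod.IsFlatOver f B) : FlatMod.IsFlatOver f (A ⊞ B) :=
  (flatOver_ses f (S := ShortComplex.mk (biprod.inl : A ⟶ A ⊞ B) biprod.snd (by simp))
    (ShortComplex.Splitting.ofHasBinaryBiproduct A B).shortExact hB).2 hA

theorem flatOver_of_flat [Flat f] {M : X.Modules} (h : FlatMod.IsFlat M) :
    FlatMod.IsFlatOver f M := fun x => by
  letI : Algebra (Y.presheaf.stalk (f.base x)) (X.presheaf.stalk x) := (f.stalkMap x).hom.toAlgebra
  letI := FlatMod.moduleStalkOver f M x
  haveI : IsScalarTower (Y.presheaf.stalk (f.base x)) (X.presheaf.stalk x) (M.presheaf.stalk x) :=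
    IsScalarTower.of_algebraMap_smul fun _ _ => rfl
  haveI : Module.Flat (Y.presheaf.stalk (f.base x)) (X.presheaf.stalk x) := Flat.stalkMap f x
  haveI : Module.Flat (X.presheaf.stalk x) (M.presheaf.stalk x) := h x
  exact Module.Flat.trans (Y.presheaf.stalk (f.base x)) (X.presheaf.stalk x) (M.presheaf.stalk x)

/-- The cycles of a bounded above acyclic complex flat over the base are flat over the base. -/
theorem flatOver_cycles (C : CochainComplex X.Modules ℤ) (b : ℤ) (hb : ∀ i, b < i → IsZero (C.X i))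
    (hflat : ∀ i, FlatMod.IsFlatOver f (C.X i)) (hac : ∀ i, IsZero (C.homology i)) (i : ℤ) :
    FlatMod.IsFlatOver f (kernel (C.d i (i + 1))) := by
  suffices H : ∀ (n : ℕ) (i : ℤ), b < i + n → FlatMod.IsFlatOver f (kernel (C.d i (i + 1))) from
    H ((b - i).toNat + 1) i (by push_cast; omega)
  intro n
  induction n with
  | zero =>
    intro i hi
    exact flatOver_isZero f (IsZero.of_mono (kernel.ι _) (hb i (by simpa using hi)))
  | succ n ih =>
    intro i hi
    let g : C.X i ⟶ kernel (C.d (i + 1) (i + 1 + 1)) := kernel.lift _ (C.d i (i + 1)) (C.d_comp_d _ _ _)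
    have hex : (ShortComplex.mk (C.d i (i + 1)) (C.d (i + 1) (i + 1 + 1)) (C.d_comp_d _ _ _)).Exact :=
      (C.exactAt_iff' i (i + 1) (i + 1 + 1) (by simp) (by simp)).1
        ((HomologicalComplex.exactAt_iff_isZero_homology _ _).2 (hac (i + 1)))
    have hg : Epi g := hex.epi_kernelLift
    have hz : kernel.ι (C.d i (i + 1)) ≫ g = 0 := by
      rw [← cancel_mono (kernel.ι (C.d (i + 1) (i + 1 + 1)))]
      simp [g]
    have hS : (ShortComplex.mk _ _ hz).ShortExact :=
      { exact := ShortComplex.exact_of_f_is_kernel _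
          (isKernelOfComp (kernel.ι (C.d (i + 1) (i + 1 + 1))) (C.d i (i + 1))
            (kernelIsKernel (C.d i (i + 1))) hz (kernel.lift_ι _ _ _)) }
    exact (flatOver_ses f hS (ih (i + 1) (by push_cast at hi; omega))).1 (hflat i)

variable {X' Y' : Scheme.{u}} {p : X' ⟶ X} {q : X' ⟶ Y'} {g : Y' ⟶ Y} {f}
  (sq : IsPullback p q f g)

include sq in
/-- Inverse images of bounded above acyclic complexes flat over the base stay acyclic after a base
change. -/
theorem isZero_homology_pullCx (C : CochainComplex X.Modules ℤ) (b : ℤ)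
    (hb : ∀ i, b < i → IsZero (C.X i))
    (hflat : ∀ i, FlatMod.IsFlatOver f (C.X i)) (hac : ∀ i, IsZero (C.homology i)) (i : ℤ) :
    IsZero (((pullCx p).obj C).homology i) := by
  obtain ⟨i, rfl⟩ : ∃ j, i = j + 1 := ⟨i - 1, by omega⟩
  haveI : (Scheme.Modules.pullback p).IsLeftAdjoint :=
    (Scheme.Modules.pullbackPushforwardAdjunction p).isLeftAdjoint
  haveI : PreservesFiniteColimits (Scheme.Modules.pullback p) := inferInstance
  let P := Scheme.Modules.pullback p
  have hex : ∀ j, (ShortComplex.mk (C.d j (j + 1)) (C.d (j + 1) (j + 1 + 1)) (C.d_comp_d _ _ _)).Exact :=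
    fun j => (C.exactAt_iff' j (j + 1) (j + 1 + 1) (by simp) (by simp)).1
      ((HomologicalComplex.exactAt_iff_isZero_homology _ _).2 (hac (j + 1)))
  let l : ∀ j, C.X j ⟶ kernel (C.d (j + 1) (j + 1 + 1)) := fun j =>
    kernel.lift _ (C.d j (j + 1)) (C.d_comp_d _ _ _)
  have hl : ∀ j, Epi (l j) := fun j => (hex j).epi_kernelLift
  have hz : ∀ j, kernel.ι (C.d j (j + 1)) ≫ l j = 0 := fun j => by
    rw [← cancel_mono (kernel.ι (C.d (j + 1) (j + 1 + 1)))]
    simp [l]
  have hS : ∀ j, (ShortComplex.mk _ _ (hz j)).ShortExact := fun j =>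
    { exact := ShortComplex.exact_of_f_is_kernel _
        (isKernelOfComp (kernel.ι (C.d (j + 1) (j + 1 + 1))) (C.d j (j + 1))
          (kernelIsKernel (C.d j (j + 1))) (hz j) (kernel.lift_ι _ _ _))
      epi_g := hl j }
  have hmono : ∀ j, Mono (P.map (kernel.ι (C.d j (j + 1)))) := fun j =>
    NumTriv.FlatFibre.mono_pullback_map sq (hS j) (flatOver_cycles f C b hb hflat hac (j + 1))
  have hPex : ((ShortComplex.mk _ _ (hz (i + 1))).map P).Exact :=
    (hS (i + 1)).exact.map_of_epi_of_preservesCokernel _ (hl (i + 1)) inferInstance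
  rw [← HomologicalComplex.exactAt_iff_isZero_homology,
    HomologicalComplex.exactAt_iff' _ i (i + 1) (i + 1 + 1) (by simp) (by simp)]
  have w₁ : P.map (C.d i (i + 1)) ≫ P.map (l (i + 1)) = 0 := by
    rw [← P.map_comp, ← kernel.lift_ι _ (C.d i (i + 1)) (C.d_comp_d i (i + 1) (i + 1 + 1)),
      Category.assoc, hz, comp_zero, Functor.map_zero]
  let φ₁ : ShortComplex.mk _ _ w₁ ⟶ (ShortComplex.mk _ _ (hz (i + 1))).map P :=
    { τ₁ := P.map (l i), τ₂ := 𝟙 _, τ₃ := 𝟙 _
      comm₁₂ := by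
        show P.map (l i) ≫ P.map (kernel.ι (C.d (i + 1) (i + 1 + 1))) = P.map (C.d i (i + 1)) ≫ 𝟙 _
        rw [Category.comp_id, ← P.map_comp, kernel.lift_ι]
      comm₂₃ := (Category.id_comp _).trans (Category.comp_id _).symm }
  have : Epi φ₁.τ₁ := by
    show Epi (P.map (l i))
    have := hl i
    infer_instance
  have : IsIso φ₁.τ₂ := inferInstanceAs (IsIso (𝟙 _))
  have : Mono φ₁.τ₃ := inferInstanceAs (Mono (𝟙 _))
  have h₁ : (ShortComplex.mk _ _ w₁).Exact :=
    (ShortComplex.exact_iff_of_epi_of_isIso_of_mono φ₁).2 hPex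
  let φ₂ : ShortComplex.mk _ _ w₁ ⟶ ((pullCx p).obj C).sc' i (i + 1) (i + 1 + 1) :=
    { τ₁ := 𝟙 _, τ₂ := 𝟙 _, τ₃ := P.map (kernel.ι (C.d (i + 1 + 1) (i + 1 + 1 + 1)))
      comm₁₂ := (Category.id_comp _).trans (Category.comp_id _).symm
      comm₂₃ := by
        show 𝟙 _ ≫ P.map (C.d (i + 1) (i + 1 + 1)) = P.map (l (i + 1)) ≫ _
        rw [Category.id_comp, ← P.map_comp, kernel.lift_ι] }
  have : Epi φ₂.τ₁ := inferInstanceAs (Epi (𝟙 _))
  have : IsIso φ₂.τ₂ := inferInstanceAs (IsIso (𝟙 _))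
  have : Mono φ₂.τ₃ := hmono (i + 1 + 1)
  exact (ShortComplex.exact_iff_of_epi_of_isIso_of_mono φ₂).1 h₁

include sq in
/-- Inverse image along a base change preserves quasi-isomorphisms of bounded above complexes flat
over the base. -/
theorem quasiIso_pullCx_of_flatOver {A B : CochainComplex X.Modules ℤ} (s : A ⟶ B) [QuasiIso s]
    (b : ℤ) (hA : ∀ i, b < i → IsZero (A.X i)) (hB : ∀ i, b < i → IsZero (B.X i))
    (hAf : ∀ i, FlatMod.IsFlatOver f (A.X i)) (hBf : ∀ i, FlatMod.IsFlatOver f (B.X i)) :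
    QuasiIso ((pullCx p).map s) := by
  have e : ∀ i, (CochainComplex.mappingCone s).X i ≅ A.X (i + 1) ⊞ B.X i := fun i =>
    HomologicalComplex.homotopyCofiber.XIsoBiprod s i (i + 1) rfl
  have hz := isZero_homology_pullCx sq (CochainComplex.mappingCone s) b
    (fun i hi => IsZero.of_iso ((biprod_isZero_iff _ _).2 ⟨hA (i + 1) (by omega), hB i hi⟩) (e i))
    (fun i => flatOver_of_iso f (e i).symm (flatOver_biprod f (hAf _) (hBf i)))
    ((acyclic_iff_isZero _).1 (acyclic_mappingCone_of_quasiIso s))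
  have hz' : (CochainComplex.mappingCone ((pullCx p).map s)).Acyclic :=
    (acyclic_iff_isZero _).2 fun i => IsZero.of_iso (hz i)
      ((HomologicalComplex.homologyFunctor _ _ i).mapIso
        (CochainComplex.mappingCone.mapHomologicalComplexIso s (Scheme.Modules.pullback p))).symm
  exact quasiIso_of_acyclic_mappingCone _ hz'

/-- Being locally of finite relative flat amplitude is stable under base change. -/
theorem locHasFiniteRelTorDim_Lpull {S S' : Scheme.{u}} (h : X ⟶ S) [Flat h] (g : S' ⟶ S)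
    [DCoh.HasLpull (pullback.fst h g)] (K : DCoh.D X) (hK : DCoh.LocHasFiniteRelTorDim h K) :
    DCoh.LocHasFiniteRelTorDim (pullback.snd h g) ((DCoh.Lpull (pullback.fst h g)).obj K) := by
  intro x'
  let pr := pullback.fst h g
  let F₀ := DerivedCategory.Q.objPreimage K
  let P := (KFlat.Pull.resY X).obj F₀
  have hP : DCoh.IsKFlat P := KFlat.Pull.isKFlat_resY F₀
  have := KFlat.Pull.quasiIso_resYπ F₀
  let eP : DCoh.toD X P ≅ K :=
    asIso (DerivedCategory.Q.map ((KFlat.Pull.resYπ X).app F₀)) ≪≫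
      DerivedCategory.Q.objObjPreimageIso K
  obtain ⟨V, a, b, hxV, hV⟩ := hK (pr x')
  obtain ⟨E, hEv, hEf, ⟨eE⟩⟩ := hV P ⟨eP⟩
  let V' := pr ⁻¹ᵁ V
  let p' : (V' : Scheme.{u}) ⟶ V := pr.resLE V V' le_rfl
  have sq : IsPullback p' (V'.ι ≫ pullback.snd h g) (V.ι ≫ h) g := by
    have h1 : IsPullback V'.ι p' pr V.ι := by
      show IsPullback V'.ι (pr.resLE V (pr ⁻¹ᵁ V) le_rfl) pr V.ι
      rw [Scheme.Hom.resLE_eq_morphismRestrict]
      exact (isPullback_morphismRestrict pr V).flip
    have h2 : IsPullback (pullback.snd h g) pr g h := (IsPullback.of_hasPullback h g).flip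
    exact (h1.paste_horiz h2).flip
  haveI : Flat (V.ι ≫ h) := inferInstance
  obtain ⟨G, t, hGflat, hGz, ht⟩ := KFlat.FlatRes.exists_flatRes E b fun i hi =>
    ShortComplex.isZero_homology_of_isZero_X₂ _ (hEv i (Or.inr hi))
  have hG : DCoh.IsKFlat G := KFlat.isKFlat_of_flat_boundedAbove G b hGz hGflat
  haveI := quasiIso_pullCx_of_flatOver sq t b hGz (fun i hi => hEv i (Or.inr hi))
    (fun i => flatOver_of_flat (V.ι ≫ h) (hGflat i)) hEf
  refine ⟨V', a, b, hxV, fun F' ⟨eF'⟩ => ⟨(pullCx p').obj E, fun i hi =>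
    (Scheme.Modules.pullback p').map_isZero (hEv i hi),
    fun i z => FDesc.BaseChangeStalk.flatOverAt_baseChange sq z (E.X i) (hEf i (p' z)), ⟨?_⟩⟩⟩
  exact (asIso (DerivedCategory.Q.map ((pullCx p').map t))).symm ≪≫
    KFlat.LocalD.pullQIso p' hG (KFlat.LocalD.isKFlat_restrict hP V)
      (asIso (DerivedCategory.Q.map t) ≪≫ eE) ≪≫
    DerivedCategory.Q.mapIso (KFlat.LocalD.restrictPullCxIso pr V V' le_rfl P).symm ≪≫
    KFlat.LocalD.restrictQIso V'
      ((@asIso _ _ _ _ ((KFlat.Pull.toPull pr).app P) (KFlat.Pull.isIso_toPull pr hP)).symm ≪≫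
        (DCoh.Lpull pr).mapIso eP ≪≫ eF'.symm)

end Groth.Agent.FlatBC
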